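import Groth.Agent.L16.RelExt.AcyclicComp
import Groth.Agent.L29.DCoh.RpushAffine
import Groth.Prelude.Def_Coh

/-!
# Direct images along affine open immersions are acyclic
-/

set_option autoImplicit false
set_option backward.isDefEq.respectTransparency false
set_option linter.style.haveILetI false

universe v v' v'' u u' u''

open CategoryTheory CategoryTheory.Limits

namespace Groth.L16.PushAffine

variable {C : Type u} [Category.{v} C] [Abelian C] [EnoughInjectives C]
  {C' : Type u'} [Category.{v'} C'] [Abelian C'] [EnoughInjectives C']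
  {D : Type u''} [Category.{v''} D] [Abelian D]
  (T : C ⥤ C') [T.Additive] [PreservesFiniteLimits T] (S : C' ⥤ D) [S.Additive] [PreservesFiniteLimits S]

/-- If `R T` and `R (T ⋙ S)` vanish on `G` in positive degrees, `T G` is acyclic for `S`. -/
theorem acyc_obj (hTI : ∀ I : C, Injective I → RelExt.AcyclicComp.Acyc S (T.obj I)) (q : ℕ) : ∀ (G : C),
    RelExt.AcyclicComp.Acyc T G → RelExt.AcyclicComp.Acyc (T ⋙ S) G →
      IsZero ((S.rightDerived (q + 1)).obj (T.obj G)) := by
  induction q using Nat.strong_induction_on with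
  | _ q ih =>
    intro G hT hTS
    let W : ShortComplex C := ShortComplex.mk (Injective.ι G) (cokernel.π (Injective.ι G)) (cokernel.condition _)
    have hW : W.ShortExact := { exact := ShortComplex.exact_cokernel _ }
    have hWm : Mono W.f := hW.mono_f
    haveI : Injective W.X₂ := inferInstanceAs (Injective (Injective.under G))
    have hTSI₂ : RelExt.AcyclicComp.Acyc (T ⋙ S) W.X₂ := fun k hk => by
      obtain ⟨k, rfl⟩ := Nat.exists_eq_succ_of_ne_zero hk.ne'
      exact (T ⋙ S).isZero_rightDerived_obj_injective_succ k _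
    have hTI₂ : RelExt.AcyclicComp.Acyc T W.X₂ := fun k hk => by
      obtain ⟨k, rfl⟩ := Nat.exists_eq_succ_of_ne_zero hk.ne'
      exact T.isZero_rightDerived_obj_injective_succ k _
    haveI := RelExt.AcyclicComp.epi_map_g T hW hT
    have hTW : (W.map T).ShortExact :=
      { exact := hW.exact.map_of_mono_of_preservesKernel T hWm inferInstance
        mono_f := T.map_mono W.f
        epi_g := inferInstanceAs (Epi (T.map W.g)) }
    have h0 : RelExt.AcyclicComp.Acyc S (W.map T).X₂ := hTI _ inferInstance
    obtain ⟨e⟩ := Groth.L28.LocCoh.nonempty_cokernel_iso S hTW q (h0 (q + 1) (by omega))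
    refine IsZero.of_iso ?_ e.symm
    obtain _ | q := q
    · haveI : PreservesFiniteLimits (T ⋙ S) := comp_preservesFiniteLimits T S
      obtain ⟨e'⟩ := Groth.L28.LocCoh.nonempty_cokernel_zero_iso (T ⋙ S) hW
      exact (hTS 1 Nat.one_pos).of_iso ((cokernel.mapIso ((S.rightDerived 0).map (W.map T).g) ((T ⋙ S).map W.g)
        (S.rightDerivedZeroIsoSelf.app _) (S.rightDerivedZeroIsoSelf.app _)
        (S.rightDerivedZeroIsoSelf.hom.naturality (W.map T).g)) ≪≫ e')
    · haveI : PreservesFiniteLimits (T ⋙ S) := comp_preservesFiniteLimits T S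
      have h₃ := ih q (Nat.lt_succ_self q) W.X₃ (RelExt.AcyclicComp.acyc_X₃ T hW hT hTI₂)
        (RelExt.AcyclicComp.acyc_X₃ (T ⋙ S) hW hTS hTSI₂)
      rw [IsZero.iff_id_eq_zero, ← cancel_epi (cokernel.π _)]
      exact h₃.eq_of_src _ _

end Groth.L16.PushAffine
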